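import Groth.Agent.AssLib.Push
import Groth.Agent.WeakAssLib.Struct
import Groth.Prelude.Def_FlatMod2
import Groth.Prelude.Def_FDesc
import Mathlib

/-!
# Associated points: generalisations, regular elements, flatness
-/

set_option autoImplicit false
set_option backward.isDefEq.respectTransparency false

universe u

open CategoryTheory AlgebraicGeometry TopologicalSpace Opposite Groth.Agent.QC Groth.Agent.WeakAssLib

namespace Groth.Agent.AssLib

variable {X : Scheme.{u}}

theorem exists_mgerm (M : X.Modules) {x : X} (t : M.presheaf.stalk x) :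
    ∃ (V : X.Opens) (hx : x ∈ V) (s : Γ(M, V)), mgerm M hx s = t := by
  obtain ⟨V, hx, s, hs⟩ := M.presheaf.exists_germ_eq (x := x) t
  exact ⟨V, hx, s, hs⟩

theorem nontrivial_of_isAssPoint {M : X.Modules} {x : X} (h : Curv2.IsAssPoint M x) :
    Nontrivial (M.presheaf.stalk x) := by
  by_contra hn
  haveI : Subsingleton (M.presheaf.stalk x) := not_nontrivial_iff_subsingleton.1 hn
  exact not_isAssociatedPrime_of_subsingleton h

/-- A nontrivial stalk is generalised by an associated point. -/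
theorem exists_ass_specializes {M : X.Modules} (hM : Coh.IsQCoh M) {x : X}
    (hx : Nontrivial (M.presheaf.stalk x)) : ∃ y, y ⤳ x ∧ Curv2.IsAssPoint M y := by
  obtain ⟨t, ht⟩ := exists_ne (0 : M.presheaf.stalk x)
  obtain ⟨V, hxV, s, rfl⟩ := exists_mgerm M t
  obtain ⟨y, -, hyx, hy, -⟩ := exists_weakAss hM hxV s ht
  exact ⟨y, hyx, (isAssPoint_iff M y).2 hy⟩

theorem ass_minimal_iff {M : X.Modules} (hM : Coh.IsQCoh M) (x : X) :
    (Curv2.IsAssPoint M x ∧ ∀ y, Curv2.IsAssPoint M y → y ⤳ x → y = x) ↔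
      (Nontrivial (M.presheaf.stalk x) ∧
        ∀ y : X, Nontrivial (M.presheaf.stalk y) → y ⤳ x → y = x) := by
  constructor
  · rintro ⟨hx, hmin⟩
    refine ⟨nontrivial_of_isAssPoint hx, fun y hy hyx => ?_⟩
    obtain ⟨z, hzy, hz⟩ := exists_ass_specializes hM hy
    rw [hmin z hz (hzy.trans hyx)] at hzy
    exact (hyx.antisymm hzy).eq
  · rintro ⟨hx, hmin⟩
    obtain ⟨z, hzx, hz⟩ := exists_ass_specializes hM hx
    obtain rfl := hmin z (nontrivial_of_isAssPoint hz) hzx
    exact ⟨hz, fun y hy hyz => hmin y (nontrivial_of_isAssPoint hy) hyz⟩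

theorem isSMulRegular_iff {M : X.Modules} (hM : Coh.IsQCoh M) (f : Γ(X, ⊤)) :
    (∀ x : X, IsSMulRegular ↑(M.presheaf.stalk x) (X.presheaf.germ ⊤ x trivial f)) ↔
      {x | Curv2.IsAssPoint M x} ⊆ (X.basicOpen f : Set X) := by
  constructor
  · intro h x hx
    by_contra hf
    obtain ⟨t, ht⟩ := ((isAssPoint_iff M x).1 hx)
    have hm : X.presheaf.germ ⊤ x trivial f ∈ IsLocalRing.maximalIdeal (X.presheaf.stalk x) :=
      (IsLocalRing.mem_maximalIdeal _).2 fun hu => hf ((X.mem_basicOpen f x trivial).2 hu)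
    rw [← ht] at hm
    obtain ⟨n, hn⟩ := hm
    have ht0 : t = 0 := (h x).pow n (hn.trans (smul_zero _).symm)
    rw [ht0, LinearMap.toSpanSingleton_zero, LinearMap.ker_zero, Ideal.radical_top] at ht
    exact (IsLocalRing.maximalIdeal.isMaximal _).ne_top ht.symm
  · intro h x
    rw [isSMulRegular_iff_right_eq_zero_of_smul]
    intro t ht
    obtain ⟨V, hxV, s, rfl⟩ := exists_mgerm M t
    have h0 : mgerm M hxV (resO X (le_top : V ≤ ⊤) f • s) = 0 := by
      rw [mgerm_smul]
      exact (congrArg (· • mgerm M hxV s)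
        (TopCat.Presheaf.germ_res_apply X.presheaf (homOfLE (le_top : V ≤ ⊤)) x hxV f)).trans ht
    obtain ⟨W, hxW, i₁, i₂, he⟩ :=
      TopCat.Presheaf.germ_eq M.presheaf x hxV hxV _ 0 (h0.trans (map_zero _).symm)
    by_contra hne
    rw [← mgerm_res M i₁.le hxW s] at hne
    obtain ⟨y, hy, -, hw, hne'⟩ := exists_weakAss hM hxW _ hne
    have h1 : mgerm M hy (res M i₁.le (resO X (le_top : V ≤ ⊤) f • s)) = 0 := by
      have he' : res M i₁.le (resO X (le_top : V ≤ ⊤) f • s) = 0 := he.trans (map_zero _)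
      rw [he', map_zero]
    rw [res_smul, mgerm_smul] at h1
    have hu : IsUnit ((X.presheaf.germ W y hy).hom (resO X i₁.le (resO X (le_top : V ≤ ⊤) f))) := by
      rw [resO_resO]
      have := (X.mem_basicOpen f y trivial).1 (h ((isAssPoint_iff M y).2 hw))
      convert this using 1
      exact TopCat.Presheaf.germ_res_apply X.presheaf (homOfLE (le_top : W ≤ ⊤)) y hy f
    exact hne' (hu.smul_eq_zero.1 h1)

theorem eq_of_specializes_of_map_eq {Y : Scheme.{u}} (f : X ⟶ Y) [IsIntegralHom f] {x y : X}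
    (h : y ⤳ x) (he : f y = f x) : x = y := by
  obtain ⟨V, hV, hxV, -⟩ :=
    exists_isAffineOpen_mem_and_subset (X := Y) (U := ⊤) (trivial : f x ∈ (⊤ : Y.Opens))
  have hW : IsAffineOpen (f ⁻¹ᵁ V) := hV.preimage f
  have hyV : y ∈ f ⁻¹ᵁ V := h.mem_open (f ⁻¹ᵁ V).2 hxV
  have hint : (f.app V).hom.IsIntegral := IsIntegralHom.isIntegral_app f V hV
  let P := (hW.primeIdealOf ⟨y, hyV⟩).asIdeal
  let Q := (hW.primeIdealOf ⟨x, hxV⟩).asIdeal
  have hPQ : P ≤ Q := by
    have ex : hW.fromSpec.base (hW.primeIdealOf ⟨x, hxV⟩) = x := hW.fromSpec_primeIdealOf ⟨x, hxV⟩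
    have ey : hW.fromSpec.base (hW.primeIdealOf ⟨y, hyV⟩) = y := hW.fromSpec_primeIdealOf ⟨y, hyV⟩
    rw [← ex, ← ey] at h
    exact (PrimeSpectrum.le_iff_specializes _ _).2
      (hW.fromSpec.isOpenEmbedding.isInducing.specializes_iff.1 h)
  have hc : P.comap (f.app V).hom = Q.comap (f.app V).hom := by
    rw [Scheme.Hom.app_eq_appLE, comap_primeIdealOf f hV hW le_rfl hyV,
      comap_primeIdealOf f hV hW le_rfl hxV]
    exact congrArg (fun z => (hV.primeIdealOf z).asIdeal) (Subtype.ext he)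
  letI := (f.app V).hom.toAlgebra
  haveI : Algebra.IsIntegral Γ(Y, V) Γ(X, f ⁻¹ᵁ V) := ⟨hint⟩
  haveI : P.IsPrime := (hW.primeIdealOf ⟨y, hyV⟩).isPrime
  rcases eq_or_lt_of_le hPQ with e | e
  · exact (congrArg Subtype.val (hW.isoSpec.hom.homeomorph.injective (PrimeSpectrum.ext e) :
      (⟨y, hyV⟩ : (f ⁻¹ᵁ V : X.Opens)) = ⟨x, hxV⟩)).symm
  · exact absurd hc (ne_of_lt (Ideal.IsIntegral.comap_lt_comap (R := Γ(Y, V)) e))

theorem ass_struct_iff (x : X) : Curv2.IsAssPoint (Coh.structureModule X) x ↔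
    IsAssociatedPrime (IsLocalRing.maximalIdeal (X.presheaf.stalk x)) (X.presheaf.stalk x) :=
  (isAssPoint_iff _ x).trans (isWeakAssPoint_struct_iff x)

theorem nontrivial_struct (x : X) : Nontrivial ((Coh.structureModule X).presheaf.stalk x) := by
  obtain ⟨V, hV, hx, -⟩ :=
    exists_isAffineOpen_mem_and_subset (X := X) (U := ⊤) (trivial : x ∈ (⊤ : X.Opens))
  refine ⟨mgerm (Coh.structureModule X) hx (1 : Γ(X, V)), 0, fun h => ?_⟩
  obtain ⟨a, ha, ha'⟩ := (germ_eq_zero_iff hV (isLoc_struct hV) hx _).1 h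
  exact ha (by
    have : a = 0 := by rw [← mul_one a]; exact ha'
    rw [this]; exact Ideal.zero_mem _)

theorem map_ass_of_flatOver {Y : Scheme.{u}} [IsLocallyNoetherian Y] (f : X ⟶ Y) (F : X.Modules)
    (hfl : FlatMod.IsFlatOver f F) {x : X} (hx : Curv2.IsAssPoint F x) :
    Curv2.IsAssPoint (Coh.structureModule Y) (f x) := by
  rw [ass_struct_iff]
  set A := Y.presheaf.stalk (f x)
  have hsub : (IsLocalRing.maximalIdeal A : Set A) ⊆
      ⋃ p ∈ associatedPrimes A A, (p : Set A) := by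
    intro a ha
    rw [biUnion_associatedPrimes_eq_compl_regular]
    intro hreg
    obtain ⟨t, ht⟩ := (isAssPoint_iff F x).1 hx
    letI := Module.compHom (F.presheaf.stalk x) (f.stalkMap x).hom
    haveI : Module.Flat A (F.presheaf.stalk x) := hfl x
    have hreg' : IsSMulRegular (F.presheaf.stalk x) a := Module.Flat.isSMulRegular_of_isRegular
        (⟨hreg, fun b c (h : b * a = c * a) => hreg (show a * b = a * c by rw [mul_comm a, mul_comm a, h])⟩ : IsRegular a)
    have hm : (f.stalkMap x).hom a ∈ IsLocalRing.maximalIdeal (X.presheaf.stalk x) :=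
      map_nonunit (f.stalkMap x).hom a ha
    rw [← ht] at hm
    obtain ⟨n, hn⟩ := hm
    have ht0 : t = 0 := hreg'.pow n (by
      change (f.stalkMap x).hom (a ^ n) • t = (f.stalkMap x).hom (a ^ n) • 0
      rw [map_pow, smul_zero]
      exact hn)
    rw [ht0, LinearMap.toSpanSingleton_zero, LinearMap.ker_zero, Ideal.radical_top] at ht
    exact (IsLocalRing.maximalIdeal.isMaximal _).ne_top ht.symm
  obtain ⟨p, hp, hle⟩ := (Ideal.subset_union_prime_finite (associatedPrimes.finite A A) ⊥ ⊥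
    (fun p hp _ _ => hp.isPrime)).1 hsub
  rwa [(IsLocalRing.maximalIdeal.isMaximal A).eq_of_le hp.isPrime.ne_top hle]

theorem eq_of_flatOver {Y : Scheme.{u}} [IsLocallyNoetherian Y] (f : X ⟶ Y)
    (hY : ∀ z, Curv2.IsAssPoint (Coh.structureModule Y) z →
      ∀ w, Curv2.IsAssPoint (Coh.structureModule Y) w → w ⤳ z → z = w)
    (F : X.Modules) (hfl : FlatMod.IsFlatOver f F) {x : X} (hx : Curv2.IsAssPoint F x) {y : Y}
    (hy : y ⤳ f x) : y = f x := by
  obtain ⟨z, hzy, hz⟩ := exists_ass_specializes (M := Coh.structureModule Y) (isQCoh_unit Y)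
    (nontrivial_struct y)
  have := hY _ (map_ass_of_flatOver f F hfl hx) z hz (hzy.trans hy)
  rw [← this] at hzy
  exact (hy.antisymm hzy).eq

theorem isReduced_of_dense [IsLocallyNoetherian X] (U : X.Opens) (hU : Dense (U : Set X))
    [IsReduced (↑U : Scheme.{u})]
    (h : ∀ z, Curv2.IsAssPoint (Coh.structureModule X) z →
      ∀ w, Curv2.IsAssPoint (Coh.structureModule X) w → w ⤳ z → z = w) : IsReduced X := by
  have hsub : {x | Curv2.IsAssPoint (Coh.structureModule X) x} ⊆ (U : Set X) := by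
    intro x hx
    obtain ⟨V, hV, hxV, -⟩ :=
      exists_isAffineOpen_mem_and_subset (X := X) (U := ⊤) (trivial : x ∈ (⊤ : X.Opens))
    have : IsNoetherianRing Γ(X, V) := IsLocallyNoetherian.component_noetherian ⟨V, hV⟩
    have hgen : ∀ y : X, y ⤳ x → y = x := by
      intro y hy
      obtain ⟨z, hzy, hz⟩ := exists_ass_specializes (M := Coh.structureModule X) (isQCoh_unit X)
        (nontrivial_struct y)
      have := h x hx z hz (hzy.trans hy)
      rw [← this] at hzy
      exact (hy.antisymm hzy).eq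
    have hmin : (hV.primeIdealOf ⟨x, hxV⟩).asIdeal ∈ minimalPrimes Γ(X, V) :=
      (minimal_iff_maximalPt hV hxV).1 hgen
    let S := minimalPrimes Γ(X, V) \ {(hV.primeIdealOf ⟨x, hxV⟩).asIdeal}
    have hS : S.Finite := (minimalPrimes.finite_of_isNoetherianRing Γ(X, V)).subset Set.sdiff_subset
    have hopen : IsOpen (hV.fromSpec.base '' (⋃ q ∈ S, PrimeSpectrum.zeroLocus (q : Set Γ(X, V)))ᶜ) :=
      hV.fromSpec.isOpenEmbedding.isOpenMap _
        (hS.isClosed_biUnion fun q _ => PrimeSpectrum.isClosed_zeroLocus _).isOpen_compl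
    have hxmem : x ∈ hV.fromSpec.base '' (⋃ q ∈ S, PrimeSpectrum.zeroLocus (q : Set Γ(X, V)))ᶜ := by
      refine ⟨hV.primeIdealOf ⟨x, hxV⟩, ?_, hV.fromSpec_primeIdealOf ⟨x, hxV⟩⟩
      simp only [Set.mem_compl_iff, Set.mem_iUnion, not_exists]
      intro q hq hle
      exact hq.2 (le_antisymm (SetLike.coe_subset_coe.1 hle) (hmin.2 ⟨hq.1.1.1, bot_le⟩ (SetLike.coe_subset_coe.1 hle)))
    obtain ⟨y, hyU, z, hz, rfl⟩ := hU.exists_mem_open hopen ⟨x, hxmem⟩
    obtain ⟨q, hq, hqz⟩ := Ideal.exists_minimalPrimes_le (I := (⊥ : Ideal Γ(X, V))) (J := z.asIdeal) bot_le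
    have hqp : q = (hV.primeIdealOf ⟨x, hxV⟩).asIdeal := by
      by_contra hne
      exact hz (Set.mem_biUnion (show q ∈ S from ⟨hq, hne⟩) (SetLike.coe_subset_coe.2 hqz))
    subst hqp
    have h1 := ((PrimeSpectrum.le_iff_specializes _ z).1 hqz).map hV.fromSpec.continuous
    have ex : hV.fromSpec.base (hV.primeIdealOf ⟨x, hxV⟩) = x := hV.fromSpec_primeIdealOf ⟨x, hxV⟩
    rw [ex] at h1
    exact h1.mem_open U.2 hyU
  have key := (ass_subset_iff (isQCoh_unit X) U).1 hsub
  have aux : ∀ (V : X.Opens), IsAffineOpen V → _root_.IsReduced Γ(X, V) := by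
    intro V hV
    refine ⟨fun s hs => key V hV s ?_⟩
    have hle : V ⊓ U ≤ U := inf_le_right
    have : _root_.IsReduced Γ(X, V ⊓ U) := by
      have hr := IsReduced.component_reduced (X := (↑U : Scheme.{u})) (U.ι ⁻¹ᵁ (V ⊓ U))
      haveI := U.ι.isIso_app (V ⊓ U) (by simp)
      exact isReduced_of_injective (U.ι.app (V ⊓ U)).hom
        (ConcreteCategory.bijective_of_isIso (U.ι.app (V ⊓ U))).1
    exact (hs.map (X.presheaf.map (homOfLE (inf_le_left : V ⊓ U ≤ V)).op).hom).eq_zero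
  have : ∀ x : X, _root_.IsReduced (X.presheaf.stalk x) := by
    intro x
    obtain ⟨V, hV, hxV, -⟩ :=
      exists_isAffineOpen_mem_and_subset (X := X) (U := ⊤) (trivial : x ∈ (⊤ : X.Opens))
    have := aux V hV
    letI := (X.presheaf.germ V x hxV).hom.toAlgebra
    haveI := hV.isLocalization_stalk ⟨x, hxV⟩
    exact isReduced_localizationPreserves (hV.primeIdealOf ⟨x, hxV⟩).asIdeal.primeCompl
      (X.presheaf.stalk x) inferInstance
  exact isReduced_of_isReduced_stalk X

end Groth.Agent.AssLib
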