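import Groth.Agent.WeakAssLib.Push
import Groth.Agent.QC.Localisation

/-!
# Associated points of quasi-coherent modules: criteria and quasi-compact direct images
-/

set_option autoImplicit false
set_option backward.isDefEq.respectTransparency false

universe u

open CategoryTheory AlgebraicGeometry TopologicalSpace Opposite Groth.Agent.QC Groth.Agent.WeakAssLib

namespace Groth.Agent.AssLib

variable {X : Scheme.{u}}

lemma ker_eq_colon (M : X.Modules) {U : X.Opens} (s : Γ(M, U)) :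
    Submodule.colon (⊥ : Submodule Γ(X, U) Γ(M, U)) {s} =
      LinearMap.ker (LinearMap.toSpanSingleton Γ(X, U) Γ(M, U) s) := by
  ext r
  simp [Submodule.mem_colon_singleton]

/-- On a noetherian affine open, an associated point is the exact annihilator of a section. -/
theorem exists_colon_eq [IsLocallyNoetherian X] {M : X.Modules} {U : X.Opens} (hU : IsAffineOpen U)
    (hM : IsLoc M U) {x : X} (hx : x ∈ U) (h : Curv2.IsAssPoint M x) :
    ∃ t : Γ(M, U), LinearMap.ker (LinearMap.toSpanSingleton Γ(X, U) Γ(M, U) t) =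
      (hU.primeIdealOf ⟨x, hx⟩).asIdeal := by
  have : IsNoetherianRing Γ(X, U) := IsLocallyNoetherian.component_noetherian ⟨U, hU⟩
  obtain ⟨s, hs⟩ := (isWeakAssPoint_iff hU hM hx).1 ((isAssPoint_iff M x).1 h)
  rw [← ker_eq_colon] at hs
  obtain ⟨t, ht⟩ := Submodule.exists_eq_colon_of_mem_minimalPrimes hs
  exact ⟨t, by rw [← ker_eq_colon]; exact ht.symm⟩

/-- A point with a section whose annihilator is exactly its prime is associated. -/
theorem isAssPoint_of_colon_eq {M : X.Modules} {U : X.Opens} (hU : IsAffineOpen U)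
    (hM : IsLoc M U) {x : X} (hx : x ∈ U) (t : Γ(M, U))
    (ht : LinearMap.ker (LinearMap.toSpanSingleton Γ(X, U) Γ(M, U) t) =
      (hU.primeIdealOf ⟨x, hx⟩).asIdeal) : Curv2.IsAssPoint M x := by
  refine (isAssPoint_iff M x).2 ((isWeakAssPoint_iff hU hM hx).2 ⟨t, ?_⟩)
  rw [ht]
  exact ⟨⟨(hU.primeIdealOf ⟨x, hx⟩).isPrime, le_rfl⟩, fun q hq _ => hq.2⟩

theorem specializes_of_le {U : X.Opens} (hU : IsAffineOpen U) {x y : X} (hx : x ∈ U) (hy : y ∈ U)
    (h : (hU.primeIdealOf ⟨x, hx⟩).asIdeal ≤ (hU.primeIdealOf ⟨y, hy⟩).asIdeal) : x ⤳ y := by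
  have h1 := ((PrimeSpectrum.le_iff_specializes _ _).1 h).map hU.fromSpec.continuous
  have ex : hU.fromSpec.base (hU.primeIdealOf ⟨x, hx⟩) = x := hU.fromSpec_primeIdealOf ⟨x, hx⟩
  have ey : hU.fromSpec.base (hU.primeIdealOf ⟨y, hy⟩) = y := hU.fromSpec_primeIdealOf ⟨y, hy⟩
  rwa [ex, ey] at h1

theorem ass_subset_iff [IsLocallyNoetherian X] {M : X.Modules} (hM : Coh.IsQCoh M) (U : X.Opens) :
    {x | Curv2.IsAssPoint M x} ⊆ (U : Set X) ↔
      ∀ V : X.Opens, IsAffineOpen V → ∀ s : Γ(M, V),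
        res M (inf_le_left : V ⊓ U ≤ V) s = 0 → s = 0 := by
  constructor
  · intro h V _ s hs
    refine eq_zero_of_forall hM s fun y hy hw => ?_
    rw [← mgerm_res M (inf_le_left : V ⊓ U ≤ V) ⟨hy, h ((isAssPoint_iff M y).2 hw)⟩ s, hs]
    exact map_zero _
  · intro h x hx
    by_contra hxU
    obtain ⟨V, hV, hxV, -⟩ :=
      exists_isAffineOpen_mem_and_subset (X := X) (U := ⊤) (trivial : x ∈ (⊤ : X.Opens))
    have hL : IsLoc M V := isLoc_of_isQCoh hV (hM := hM)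
    obtain ⟨t, ht⟩ := exists_colon_eq hV hL hxV hx
    have ht0 : t = 0 := by
      refine h V hV t (ext_germ M _ fun y hy => ?_)
      rw [mgerm_res]
      have hn : ¬ (hV.primeIdealOf ⟨x, hxV⟩).asIdeal ≤ (hV.primeIdealOf ⟨y, hy.1⟩).asIdeal :=
        fun hle => hxU ((specializes_of_le hV hxV hy.1 hle).mem_open U.2 hy.2)
      obtain ⟨a, ha, hay⟩ := SetLike.not_le_iff_exists.1 hn
      refine (germ_eq_zero_iff hV hL hy.1 t).2 ⟨a, hay, ?_⟩
      rw [← ht] at ha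
      exact ha
    apply (hV.primeIdealOf ⟨x, hxV⟩).isPrime.ne_top
    rw [← ht, ht0, LinearMap.toSpanSingleton_zero, LinearMap.ker_zero]

theorem finset_prime_of_iInf {R : Type*} [CommRing R] {ι : Type*} [Fintype ι] {p : Ideal R}
    (hp : p.IsPrime) (K : ι → Ideal R) (h : ⨅ j, K j = p) : ∃ j, K j = p := by
  obtain ⟨j, -, hj⟩ := (Ideal.IsPrime.inf_le' hp (s := Finset.univ) (f := K)).1
    (by rw [Finset.inf_univ_eq_iInf, h])
  exact ⟨j, le_antisymm hj (h ▸ iInf_le K j)⟩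

variable {S : Scheme.{u}} (f : X ⟶ S)

theorem comap_primeIdealOf {V : S.Opens} (hV : IsAffineOpen V) {W : X.Opens} (hW : IsAffineOpen W)
    (hWV : W ≤ f ⁻¹ᵁ V) {x : X} (hx : x ∈ W) :
    (hW.primeIdealOf ⟨x, hx⟩).asIdeal.comap (f.appLE V W hWV).hom =
      (hV.primeIdealOf ⟨f x, hWV hx⟩).asIdeal :=
  congrArg PrimeSpectrum.asIdeal
    (IsAffineOpen.comap_primeIdealOf_appLE (f := f) V hV W hW hWV hx)

theorem res_push_smul (M : X.Modules) {V : S.Opens} {W : X.Opens} (hWV : W ≤ f ⁻¹ᵁ V) (a : Γ(S, V))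
    (t : Γ((Scheme.Modules.pushforward f).obj M, V)) :
    res M hWV (show Γ(M, f ⁻¹ᵁ V) from a • t) =
      (f.appLE V W hWV).hom a • res M hWV (show Γ(M, f ⁻¹ᵁ V) from t) := by
  show res M hWV ((f.app V).hom a • (show Γ(M, f ⁻¹ᵁ V) from t)) = _
  rw [res_smul]
  rfl

theorem exists_ass_above [IsLocallyNoetherian S] [QuasiCompact f]
    [QuasiSeparated f] (M : X.Modules) (hM : Coh.IsQCoh M) {y : S}
    (hy : Curv2.IsAssPoint ((Scheme.Modules.pushforward f).obj M) y) :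
    ∃ x : X, f x = y ∧ Curv2.IsAssPoint M x := by
  obtain ⟨V, hV, hyV, -⟩ :=
    exists_isAffineOpen_mem_and_subset (X := S) (U := ⊤) (trivial : y ∈ (⊤ : S.Opens))
  obtain ⟨t, ht⟩ := exists_colon_eq hV (isLoc_of_isQCoh hV (hM := isQCoh_pushforward (hM := hM) f)) hyV hy
  set p := hV.primeIdealOf ⟨y, hyV⟩
  obtain ⟨s, hs, hWs⟩ := (X.isBasis_affineOpens.exists_finite_of_isCompact
    (QuasiCompact.isCompact_preimage (f := f) _ V.2 hV.isCompact) :
      ∃ s ⊆ X.affineOpens, s.Finite ∧ f ⁻¹ᵁ V = sSup s)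
  obtain ⟨hfin, heq⟩ := hWs
  have := hfin.fintype
  have hle : ∀ W : s, W.1 ≤ f ⁻¹ᵁ V := fun W => heq ▸ le_sSup W.2
  let K : s → Ideal Γ(S, V) := fun W => Ideal.comap (f.appLE V W.1 (hle W)).hom
    (LinearMap.ker (LinearMap.toSpanSingleton Γ(X, W.1) Γ(M, W.1)
      (res M (hle W) (show Γ(M, f ⁻¹ᵁ V) from t))))
  have hK : ⨅ W, K W = p.asIdeal := by
    rw [← ht]
    ext a
    simp only [Ideal.mem_iInf, K, Ideal.mem_comap, LinearMap.mem_ker,
      LinearMap.toSpanSingleton_apply, ← res_push_smul]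
    constructor
    · intro h
      refine ext_germ M (show Γ(M, f ⁻¹ᵁ V) from a • t) fun x hx => ?_
      obtain ⟨W, hWm, hxW⟩ := Opens.mem_sSup.1 (heq ▸ hx)
      rw [← mgerm_res M (hle ⟨W, hWm⟩) hxW, h ⟨W, hWm⟩]
      exact map_zero _
    · intro h W
      rw [h]
      exact map_zero _
  obtain ⟨⟨W, hWm⟩, hW⟩ := finset_prime_of_iInf p.isPrime K hK
  have hWa : IsAffineOpen W := hs hWm
  have hWV := hle ⟨W, hWm⟩
  have hmin : p.asIdeal ∈ (K ⟨W, hWm⟩).minimalPrimes := by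
    rw [hW]
    exact ⟨⟨p.isPrime, le_rfl⟩, fun q hq _ => hq.2⟩
  obtain ⟨q, hq, hqp⟩ := Ideal.exists_minimalPrimes_comap_eq (f.appLE V W hWV).hom _ hmin
  let q' : Spec Γ(X, W) := ⟨q, hq.1.1⟩
  have hxW : hWa.fromSpec.base q' ∈ W := hWa.range_fromSpec.subset ⟨q', rfl⟩
  have hqx : hWa.primeIdealOf ⟨_, hxW⟩ = q' :=
    hWa.fromSpec.isOpenEmbedding.injective (hWa.fromSpec_primeIdealOf ⟨_, hxW⟩)
  refine ⟨hWa.fromSpec.base q', ?_, (isAssPoint_iff M _).2
    ((isWeakAssPoint_iff hWa (isLoc_of_isQCoh hWa (hM := hM)) hxW).2 ⟨_, by rw [hqx]; exact hq⟩)⟩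
  have h1 := comap_primeIdealOf f hV hWa hWV hxW
  rw [hqx] at h1
  have h2 : p = hV.primeIdealOf ⟨f (hWa.fromSpec.base q'), hWV hxW⟩ :=
    PrimeSpectrum.ext (hqp.symm.trans h1)
  exact (congrArg Subtype.val (hV.isoSpec.hom.homeomorph.injective h2 :
    (⟨y, hyV⟩ : V) = ⟨_, hWV hxW⟩)).symm

theorem ass_push_ι [IsLocallyNoetherian X] (U : X.Opens) (M : U.toScheme.Modules)
    (hM : Coh.IsQCoh M) {x : U.toScheme} (hx : Curv2.IsAssPoint M x) :
    Curv2.IsAssPoint ((Scheme.Modules.pushforward U.ι).obj M) (U.ι x) := by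
  obtain ⟨V, hV, hxV, hVU⟩ :=
    exists_isAffineOpen_mem_and_subset (X := X) (U := U) (x := U.ι x) x.2
  have hW : IsAffineOpen (U.ι ⁻¹ᵁ V) := hV.preimage_of_isOpenImmersion U.ι (by simpa using hVU)
  obtain ⟨t, ht⟩ := exists_colon_eq hW (isLoc_of_isQCoh hW (hM := hM)) hxV hx
  refine isAssPoint_of_colon_eq hV
    (isLoc_of_isQCoh hV (hM := isQCoh_pushforward (hM := hM) U.ι)) hxV t ?_
  rw [← comap_primeIdealOf U.ι hV hW le_rfl hxV, ← ht, ← Scheme.Hom.app_eq_appLE]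
  ext a
  rfl

end Groth.Agent.AssLib
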